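import Groth.Agent.OmegaLib.AffineHom
import Groth.Prelude.Def_Omega4

/-! The module of an ideal sheaf on an affine scheme. -/

set_option autoImplicit false
universe u

namespace Groth.Agent.OmegaLib

open AlgebraicGeometry CategoryTheory TopologicalSpace Opposite

variable {P : Scheme.{u}} (K : P.IdealSheafData)

theorem idealSect_injective (U : P.Opens) : Function.Injective (OmegaSh.idealSect K U) :=
  OmegaSh.idealModι_app_injective U K

theorem idealSect_smul (U : P.Opens) (r : Γ(P, U)) (k : Γ(ClSub.idealMod K, U)) :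
    OmegaSh.idealSect K U (r • k) = r * OmegaSh.idealSect K U k := by
  rw [OmegaSh.idealSect_apply, Scheme.Modules.Hom.app_smul]
  rfl

theorem idealSect_map {U V : P.Opens} (i : V ≤ U) (k : Γ(ClSub.idealMod K, U)) :
    OmegaSh.idealSect K V ((ClSub.idealMod K).presheaf.map (homOfLE i).op k) =
      P.presheaf.map (homOfLE i).op (OmegaSh.idealSect K U k) := by
  rw [OmegaSh.idealSect_apply, OmegaSh.idealModι_app_map]
  rfl

theorem subschemeι_app_idealSect (U : P.Opens) (k : Γ(ClSub.idealMod K, U)) :
    K.subschemeι.app U (OmegaSh.idealSect K U k) = 0 := by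
  have := congr(($(Limits.kernel.condition (ClSub.toSubscheme K))).app U k)
  exact this

theorem exists_idealSect_eq (U : P.Opens) (x : Γ(P, U)) (hx : K.subschemeι.app U x = 0) :
    ∃ k, OmegaSh.idealSect K U k = x :=
  ⟨OmegaSh.kerLift (ClSub.toSubscheme K) U (OmegaSh.strSect P U x) hx,
    OmegaSh.ι_kerLift (ClSub.toSubscheme K) U (OmegaSh.strSect P U x) hx⟩

theorem idealSect_mem (U : P.affineOpens) (k : Γ(ClSub.idealMod K, U.1)) :
    OmegaSh.idealSect K U.1 k ∈ K.ideal U := by
  rw [← K.ker_subschemeι_app, RingHom.mem_ker]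
  exact subschemeι_app_idealSect K U.1 k

theorem exists_of_mem (U : P.affineOpens) (x : Γ(P, U.1)) (hx : x ∈ K.ideal U) :
    ∃ k, OmegaSh.idealSect K U.1 k = x := by
  rw [← K.ker_subschemeι_app, RingHom.mem_ker] at hx
  exact exists_idealSect_eq K U.1 x hx

theorem globLocalized_idealMod [IsAffine P] : GlobLocalized (ClSub.idealMod K) := by
  intro r
  have := (isAffineOpen_top P).isLocalization_basicOpen r
  constructor
  · intro k
    obtain ⟨⟨x₀, _, n, rfl⟩, hx⟩ := IsLocalization.surj (Submonoid.powers r)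
      (OmegaSh.idealSect K (P.basicOpen r) k)
    have hcpt : IsCompact ((K.subschemeι ⁻¹ᵁ ⊤ : K.subscheme.Opens) : Set K.subscheme) :=
      QuasiCompact.isCompact_preimage (f := K.subschemeι) _ isOpen_univ
        (isAffineOpen_top P).isCompact
    obtain ⟨m, hm⟩ := exists_pow_mul_eq_zero_of_res_basicOpen_eq_zero_of_isCompact K.subscheme
      hcpt (K.subschemeι.app ⊤ x₀) (K.subschemeι.app ⊤ r) (by
        have h0 : K.subschemeι.app (P.basicOpen r) (P.presheaf.map (homOfLE le_top).op x₀) = 0 := by
          rw [show P.presheaf.map (homOfLE le_top).op x₀ = _ from hx.symm, map_mul,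
            subschemeι_app_idealSect, zero_mul]
        rw [← CommRingCat.comp_apply, K.subschemeι.naturality, CommRingCat.comp_apply] at h0
        have e : K.subscheme.basicOpen (K.subschemeι.app ⊤ r) = K.subschemeι ⁻¹ᵁ P.basicOpen r :=
          (K.subschemeι.preimage_basicOpen r).symm
        have h1 := congrArg (K.subscheme.presheaf.map (eqToHom e).op) h0
        rw [map_zero, ← CommRingCat.comp_apply, ← Functor.map_comp] at h1
        exact h1)
    obtain ⟨k₀, hk₀⟩ := exists_idealSect_eq K ⊤ (r ^ m * x₀) (by rw [map_mul, map_pow, hm])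
    refine ⟨m + n, k₀, idealSect_injective K _ ?_⟩
    rw [idealSect_smul, idealSect_map, hk₀, map_mul, map_pow,
      show P.presheaf.map (homOfLE le_top).op x₀ = _ from hx.symm, map_pow, pow_add,
      RingHom.algebraMap_toAlgebra]
    ring
  · intro k₀ hk
    have h := congrArg (OmegaSh.idealSect K (P.basicOpen r)) hk
    rw [idealSect_map, map_zero] at h
    have h' : algebraMap Γ(P, ⊤) Γ(P, P.basicOpen r) (OmegaSh.idealSect K ⊤ k₀) = 0 := h
    obtain ⟨⟨_, n, rfl⟩, hn⟩ :=
      (IsLocalization.map_eq_zero_iff (Submonoid.powers r) Γ(P, P.basicOpen r) _).mp h'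
    refine ⟨n, idealSect_injective K _ ?_⟩
    rw [idealSect_smul, map_zero]
    exact hn

end Groth.Agent.OmegaLib
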