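import Groth.Agent.OmegaLib.IdealMod
import Groth.Prelude.Def_OmAff
import Mathlib.RingTheory.Kaehler.Basic
import Mathlib.AlgebraicGeometry.Pullbacks

/-! The sheaf of differentials of a morphism of affine schemes is the sheaf of Kähler differentials. -/

set_option autoImplicit false
universe u

namespace Groth.Agent.OmegaLib

open AlgebraicGeometry CategoryTheory Limits TopologicalSpace Opposite
open scoped TensorProduct

variable (A B : Type u) [CommRing A] [CommRing B] [Algebra A B]

/-- `Spec B ⟶ Spec A`. -/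
noncomputable abbrev sMap : Spec (CommRingCat.of B) ⟶ Spec (CommRingCat.of A) :=
  Spec.map (CommRingCat.ofHom (algebraMap A B))

/-- the fibre square -/
noncomputable abbrev sq : Scheme.{u} := pullback (sMap A B) (sMap A B)

noncomputable abbrev dg : Spec (CommRingCat.of B) ⟶ sq A B := pullback.diagonal (sMap A B)

noncomputable abbrev idealM : (sq A B).Modules := ClSub.idealMod (dg A B).ker

/-- `B ⊗[A] B` as functions on the fibre square. -/
noncomputable def tensorToΓ : B ⊗[A] B →+* Γ(sq A B, ⊤) :=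
  ((Scheme.ΓSpecIso (CommRingCat.of (B ⊗[A] B))).inv ≫ (pullbackSpecIso A B B).hom.appTop).hom

theorem tensorToΓ_bijective : Function.Bijective (tensorToΓ A B) :=
  (ConcreteCategory.bijective_of_isIso ((pullbackSpecIso A B B).hom.app ⊤)).comp
    (ConcreteCategory.bijective_of_isIso (Scheme.ΓSpecIso (CommRingCat.of (B ⊗[A] B))).inv)

theorem appTop_SpecMap_toΓ {C : Type u} [CommRing C] (φ : B →+* C) (b : B) :
    (Spec.map (CommRingCat.ofHom φ)).appTop (OmAff.toΓ B b) = OmAff.toΓ C (φ b) :=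
  (congr($(Scheme.ΓSpecIso_inv_naturality (CommRingCat.ofHom φ)) b)).symm

theorem tensorToΓ_left (b : B) :
    tensorToΓ A B (b ⊗ₜ 1) = (pullback.fst (sMap A B) (sMap A B)).appTop (OmAff.toΓ B b) := by
  rw [← pullbackSpecIso_hom_fst A B B, Scheme.Hom.comp_appTop, CommRingCat.comp_apply,
    appTop_SpecMap_toΓ]
  rfl

theorem tensorToΓ_right (b : B) :
    tensorToΓ A B (1 ⊗ₜ b) = (pullback.snd (sMap A B) (sMap A B)).appTop (OmAff.toΓ B b) := by
  rw [← pullbackSpecIso_hom_snd A B B, Scheme.Hom.comp_appTop, CommRingCat.comp_apply,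
    appTop_SpecMap_toΓ]
  rfl

theorem dg_appTop_appTop (p : sq A B ⟶ Spec (CommRingCat.of B)) (hp : dg A B ≫ p = 𝟙 _)
    (x : Γ(Spec (CommRingCat.of B), ⊤)) : (dg A B).appTop (p.appTop x) = x := by
  rw [← CommRingCat.comp_apply, ← Scheme.Hom.comp_appTop, hp]
  simp

theorem dg_appTop_tensorToΓ (x : B ⊗[A] B) :
    (dg A B).appTop (tensorToΓ A B x) = OmAff.toΓ B (Algebra.TensorProduct.lmul' A x) := by
  induction x with
  | zero => simp
  | tmul a b =>
    rw [show a ⊗ₜ[A] b = (a ⊗ₜ 1) * (1 ⊗ₜ b) by simp, map_mul, map_mul, map_mul, tensorToΓ_left,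
      tensorToΓ_right, dg_appTop_appTop A B _ (pullback.diagonal_fst _),
      dg_appTop_appTop A B _ (pullback.diagonal_snd _)]
    simp
  | add x y hx hy => simp only [map_add, hx, hy]

theorem idealSect_mem_kernel (k : Γ(idealM A B, ⊤)) :
    (dg A B).appTop (OmegaSh.idealSect (dg A B).ker ⊤ k) = 0 := by
  have := idealSect_mem (dg A B).ker ⟨⊤, isAffineOpen_top _⟩ k
  rw [Scheme.Hom.ker_apply] at this
  exact this

/-- A global section of the diagonal ideal sheaf as an element of the diagonal ideal. -/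
noncomputable def toIdeal (k : Γ(idealM A B, ⊤)) : KaehlerDifferential.ideal A B :=
  ⟨(RingEquiv.ofBijective _ (tensorToΓ_bijective A B)).symm (OmegaSh.idealSect (dg A B).ker ⊤ k), by
    rw [KaehlerDifferential.ideal, RingHom.mem_ker]
    apply (Scheme.ΓSpecIso (CommRingCat.of B)).commRingCatIsoToRingEquiv.symm.injective
    rw [map_zero]
    refine (dg_appTop_tensorToΓ A B _).symm.trans ?_
    have h := (RingEquiv.ofBijective _ (tensorToΓ_bijective A B)).apply_symm_apply
      (OmegaSh.idealSect (dg A B).ker ⊤ k)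
    exact (congrArg _ h).trans (idealSect_mem_kernel A B k)⟩

theorem tensorToΓ_toIdeal (k : Γ(idealM A B, ⊤)) :
    tensorToΓ A B (toIdeal A B k) = OmegaSh.idealSect (dg A B).ker ⊤ k :=
  (RingEquiv.ofBijective _ (tensorToΓ_bijective A B)).apply_symm_apply _

theorem toIdeal_add (k l : Γ(idealM A B, ⊤)) :
    toIdeal A B (k + l) = toIdeal A B k + toIdeal A B l := by
  apply Subtype.ext
  apply (tensorToΓ_bijective A B).1
  rw [Submodule.coe_add, map_add, tensorToΓ_toIdeal, tensorToΓ_toIdeal, tensorToΓ_toIdeal, map_add]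

theorem toIdeal_smul (r : B ⊗[A] B) (k : Γ(idealM A B, ⊤)) :
    toIdeal A B (tensorToΓ A B r • k) = r • toIdeal A B k := by
  apply Subtype.ext
  apply (tensorToΓ_bijective A B).1
  rw [SetLike.val_smul, smul_eq_mul, map_mul, tensorToΓ_toIdeal, tensorToΓ_toIdeal, idealSect_smul]

theorem tensor_smul_kaehler (r : B ⊗[A] B) (z : Ω[B⁄A]) :
    r • z = Algebra.TensorProduct.lmul' A r • z := by
  induction r with
  | zero => simp
  | tmul a b =>
    obtain ⟨z, rfl⟩ : ∃ w, (KaehlerDifferential.fromIdeal A B) w = z :=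
      (KaehlerDifferential.ideal A B).toCotangent_surjective z
    have h : a ⊗ₜ[A] b - algebraMap B (B ⊗[A] B) (Algebra.TensorProduct.lmul' A (a ⊗ₜ[A] b)) ∈
        KaehlerDifferential.ideal A B := by
      simp [RingHom.mem_ker, Algebra.TensorProduct.algebraMap_apply]
    rw [← IsScalarTower.algebraMap_smul (B ⊗[A] B) (Algebra.TensorProduct.lmul' A (a ⊗ₜ[A] b)),
      ← sub_eq_zero, ← sub_smul]
    rw [← map_smul]
    refine (Ideal.toCotangent_eq_zero (KaehlerDifferential.ideal A B) _).mpr ?_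
    rw [pow_two, SetLike.val_smul, smul_eq_mul]
    exact Ideal.mul_mem_mul h z.2
  | add x y hx hy => rw [add_smul, map_add, add_smul, hx, hy]

/-- The tilde of the Kähler differentials. -/
noncomputable abbrev kTilde : (Spec (CommRingCat.of B)).Modules :=
  tilde (R := CommRingCat.of B) (ModuleCat.of B (Ω[B⁄A]))

/-- An element as a global section of the tilde. -/
noncomputable def toTop : Ω[B⁄A] →+ Γ(kTilde A B, ⊤) where
  toFun z := (tilde.toOpen (R := CommRingCat.of B) (ModuleCat.of B (Ω[B⁄A])) ⊤).hom z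
  map_zero' := map_zero (tilde.toOpen (R := CommRingCat.of B) (ModuleCat.of B (Ω[B⁄A])) ⊤).hom
  map_add' := map_add (tilde.toOpen (R := CommRingCat.of B) (ModuleCat.of B (Ω[B⁄A])) ⊤).hom

theorem toΓ_res (b : B) :
    (Spec (CommRingCat.of B)).presheaf.map (Opens.leTop ⊤).op
      ((Scheme.ΓSpecIso (CommRingCat.of B)).inv b) = OmAff.toΓ B b := by
  rw [show (Opens.leTop ⊤).op = 𝟙 (op (⊤ : (Spec (CommRingCat.of B)).Opens)) from rfl,
    (Spec (CommRingCat.of B)).presheaf.map_id]
  rfl

theorem toTop_smul (b : B) (z : Ω[B⁄A]) :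
    toTop A B (b • z) = OmAff.toΓ B b • toTop A B z := by
  refine ((tilde.toOpen (R := CommRingCat.of B) (ModuleCat.of B (Ω[B⁄A])) ⊤).hom.map_smul b z).trans ?_
  exact congrArg (fun c : Γ(Spec (CommRingCat.of B), ⊤) => c • toTop A B z) (toΓ_res B b)

theorem pullSect_adjoint {X P : Scheme.{u}} (g : X ⟶ P) (M : P.Modules) (T : X.Modules)
    (α : (Scheme.Modules.pullback g).obj M ⟶ T) (W : P.Opens) (k : Γ(M, W)) :
    α.app (g ⁻¹ᵁ W) (OmegaSh.pullSect g M W k) =
      ((Scheme.Modules.pullbackPushforwardAdjunction g).homEquiv M T α).app W k := by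
  rw [Adjunction.homEquiv_unit]
  rfl

theorem appLE_top_top {X Y : Scheme.{u}} (p : X ⟶ Y) (e : (⊤ : X.Opens) ≤ p ⁻¹ᵁ ⊤) :
    p.appLE ⊤ ⊤ e = p.appTop := by
  rw [Scheme.Hom.appLE, show (homOfLE e).op = 𝟙 (op (⊤ : X.Opens)) from rfl]
  erw [X.presheaf.map_id, Category.comp_id]

/-- The global section `1 ⊗ b - b ⊗ 1`. -/
noncomputable def dLift (b : B) : Γ(idealM A B, ⊤) :=
  (idealM A B).presheaf.map
    (homOfLE (show (⊤ : (sq A B).Opens) ≤ OmegaSh.diagNbhd (sMap A B) ⊤ from
      fun _ _ => ⟨trivial, trivial⟩)).op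
    (OmegaSh.idealLift (sMap A B) ⊤ (OmAff.toΓ B b))

theorem toIdeal_dLift (b : B) : (toIdeal A B (dLift A B b) : B ⊗[A] B) = 1 ⊗ₜ b - b ⊗ₜ 1 := by
  apply (tensorToΓ_bijective A B).1
  rw [tensorToΓ_toIdeal, map_sub, tensorToΓ_left, tensorToΓ_right, dLift, idealSect_map,
    OmegaSh.idealSect_apply, OmegaSh.ι_idealLift]
  change (sq A B).presheaf.map _ (OmegaSh.diagDiff (sMap A B) ⊤ (OmAff.toΓ B b)) = _
  rw [OmegaSh.diagDiff, map_sub]
  congr 1 <;>
  · rw [← CommRingCat.comp_apply, Scheme.Hom.appLE_map, appLE_top_top]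

theorem dSect_toΓ (b : B) :
    OmegaSh.dSect (sMap A B) ⊤ (OmAff.toΓ B b) =
      OmegaSh.pullSect (dg A B) (idealM A B) ⊤ (dLift A B b) := by
  rw [dLift, OmegaSh.pullSect_map, OmegaSh.dSect]
  rfl

theorem mem_closure_dLift (k : Γ(idealM A B, ⊤)) :
    k ∈ Submodule.span Γ(sq A B, ⊤) (Set.range (dLift A B)) := by
  have hk := (SetLike.ext_iff.mp (KaehlerDifferential.span_range_eq_ideal A B) _).mpr (toIdeal A B k).2
  suffices H : ∀ x ∈ Ideal.span (Set.range fun s : B => (1 : B) ⊗ₜ[A] s - s ⊗ₜ[A] (1 : B)),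
      ∃ l ∈ Submodule.span Γ(sq A B, ⊤) (Set.range (dLift A B)),
        OmegaSh.idealSect (dg A B).ker ⊤ l = tensorToΓ A B x by
    obtain ⟨l, hl, e⟩ := H _ hk
    rw [tensorToΓ_toIdeal] at e
    exact idealSect_injective _ _ e ▸ hl
  intro x hx
  induction hx using Submodule.span_induction with
  | mem y hy =>
    obtain ⟨b, rfl⟩ := hy
    exact ⟨dLift A B b, Submodule.subset_span ⟨b, rfl⟩, by
      rw [← tensorToΓ_toIdeal, toIdeal_dLift]⟩
  | zero => exact ⟨0, zero_mem _, by rw [map_zero, map_zero]⟩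
  | add y z _ _ hy hz =>
    obtain ⟨l, hl, e⟩ := hy
    obtain ⟨l', hl', e'⟩ := hz
    exact ⟨l + l', add_mem hl hl', by rw [map_add, map_add, e, e']⟩
  | smul c y _ hy =>
    obtain ⟨l, hl, e⟩ := hy
    exact ⟨tensorToΓ A B c • l, Submodule.smul_mem _ _ hl, by
      rw [idealSect_smul, e, smul_eq_mul, map_mul]⟩

/-- The sheaf of differentials is the sheaf of Kähler differentials, compatibly with the derivations. -/
theorem exists_iso_kTilde : ∃ e : Omega.sheaf (sMap A B) ≅ kTilde A B,
    ∀ b : B, e.hom.app ⊤ (OmegaSh.dSect (sMap A B) ⊤ (OmAff.toΓ B b)) =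
      toTop A B (KaehlerDifferential.D A B b) := by
  -- the map to the tilde
  obtain ⟨θ', hθ'⟩ := exists_hom_of_affine (globLocalized_idealMod (dg A B).ker)
    (F := (Scheme.Modules.pushforward (dg A B)).obj (kTilde A B))
    (AddMonoidHom.mk' (fun k => toTop A B (KaehlerDifferential.fromIdeal A B (toIdeal A B k)))
      fun k l => by rw [toIdeal_add, map_add]; exact map_add (toTop A B) _ _)
    (fun r k => by
      obtain ⟨r, rfl⟩ := (tensorToΓ_bijective A B).2 r
      change toTop A B _ = (dg A B).appTop (tensorToΓ A B r) • toTop A B _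
      rw [toIdeal_smul, map_smul, tensor_smul_kaehler, toTop_smul, dg_appTop_tensorToΓ])
  let α : Omega.sheaf (sMap A B) ⟶ kTilde A B :=
    ((Scheme.Modules.pullbackPushforwardAdjunction (dg A B)).homEquiv _ _).symm θ'
  have hα : ∀ k, α.app ⊤ (OmegaSh.pullSect (dg A B) (idealM A B) ⊤ k) =
      toTop A B (KaehlerDifferential.fromIdeal A B (toIdeal A B k)) := fun k => by
    refine (pullSect_adjoint (dg A B) _ _ α ⊤ k).trans ?_
    rw [Equiv.apply_symm_apply]
    exact hθ' k
  have hαd : ∀ b, α.app ⊤ (OmegaSh.dSect (sMap A B) ⊤ (OmAff.toΓ B b)) =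
      toTop A B (KaehlerDifferential.D A B b) := fun b => by
    rw [dSect_toΓ]
    refine (hα _).trans ?_
    congr 1
    rw [KaehlerDifferential.D_apply]
    exact congrArg _ (Subtype.ext (toIdeal_dLift A B b))
  -- the map back
  let lin : ModuleCat.of (CommRingCat.of B) (Ω[B⁄A]) ⟶
      (moduleSpecΓFunctor (R := CommRingCat.of B)).obj (Omega.sheaf (sMap A B)) :=
    ModuleCat.ofHom
      (Y := ((moduleSpecΓFunctor (R := CommRingCat.of B)).obj (Omega.sheaf (sMap A B)) : ModuleCat _))
      { toFun := OmAff.toSpec A B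
        map_add' := map_add (OmAff.toSpec A B)
        map_smul' := fun b z => (LinearMap.map_smulₛₗ (OmAff.toSpec A B) b z).trans
          (congrArg (fun c : Γ(Spec (CommRingCat.of B), ⊤) => c • OmAff.toSpec A B z) (toΓ_res B b)).symm }
  let β : kTilde A B ⟶ Omega.sheaf (sMap A B) :=
    ((tilde.adjunction (R := CommRingCat.of B)).homEquiv (ModuleCat.of B (Ω[B⁄A]))
      (Omega.sheaf (sMap A B))).symm lin
  have hβ : ∀ z, β.app ⊤ (toTop A B z) = OmAff.toSpec A B z := fun z => by
    have h := ((tilde.adjunction (R := CommRingCat.of B)).homEquiv (ModuleCat.of B (Ω[B⁄A]))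
      (Omega.sheaf (sMap A B))).apply_symm_apply lin
    rw [Adjunction.homEquiv_unit] at h
    exact congr($h z)
  have h1 : β ≫ α = 𝟙 _ := by
    apply ((tilde.adjunction (R := CommRingCat.of B)).homEquiv _ _).injective
    rw [Adjunction.homEquiv_unit, Adjunction.homEquiv_unit]
    apply ModuleCat.hom_ext
    apply LinearMap.ext
    intro z
    show α.app ⊤ (β.app ⊤ (toTop A B z)) = toTop A B z
    rw [hβ]
    have hz : z ∈ Submodule.span B (Set.range (KaehlerDifferential.D A B)) := by
      rw [KaehlerDifferential.span_range_derivation]; trivial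
    induction hz using Submodule.span_induction with
    | mem y hy => obtain ⟨b, rfl⟩ := hy; rw [OmAff.toSpec_D]; exact hαd b
    | zero => simp
    | add y y' _ _ e e' => simp only [map_add, e, e']
    | smul b y _ e => rw [LinearMap.map_smulₛₗ, Scheme.Modules.Hom.app_smul, e, toTop_smul]
  have h2 : α ≫ β = 𝟙 _ := by
    apply ((Scheme.Modules.pullbackPushforwardAdjunction (dg A B)).homEquiv _ _).injective
    refine hom_ext_of_affine (globLocalized_idealMod (dg A B).ker) fun k => ?_
    rw [← pullSect_adjoint, ← pullSect_adjoint]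
    show β.app ⊤ (α.app ⊤ (OmegaSh.pullSect (dg A B) (idealM A B) ⊤ k)) =
      OmegaSh.pullSect (dg A B) (idealM A B) ⊤ k
    induction mem_closure_dLift A B k using Submodule.span_induction with
    | mem y hy =>
      obtain ⟨b, rfl⟩ := hy
      rw [← dSect_toΓ, hαd, hβ, OmAff.toSpec_D]
    | zero =>
      rw [map_zero]
      exact (congrArg (β.app ⊤) (map_zero (α.app ⊤).hom)).trans (map_zero (β.app ⊤).hom)
    | add y y' _ _ e e' =>
      rw [map_add]
      exact (congrArg (β.app ⊤) (map_add (α.app ⊤).hom _ _)).trans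
        ((map_add (β.app ⊤).hom _ _).trans (congrArg₂ (· + ·) e e'))
    | smul r y _ e =>
      rw [OmegaSh.pullSect_smul]
      erw [Scheme.Modules.Hom.app_smul, Scheme.Modules.Hom.app_smul]
      exact congrArg _ e
  exact ⟨⟨α, β, h2, h1⟩, hαd⟩

theorem nonempty_iso_tilde :
    Nonempty (Omega.sheaf (sMap A B) ≅ kTilde A B) :=
  ⟨(exists_iso_kTilde A B).choose⟩

theorem toSpec_bijective : Function.Bijective (OmAff.toSpec A B) := by
  obtain ⟨e, he⟩ := exists_iso_kTilde A B
  have key : ∀ z, e.hom.app ⊤ (OmAff.toSpec A B z) = toTop A B z := fun z => by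
    have hz : z ∈ Submodule.span B (Set.range (KaehlerDifferential.D A B)) := by
      rw [KaehlerDifferential.span_range_derivation]; trivial
    induction hz using Submodule.span_induction with
    | mem y hy => obtain ⟨b, rfl⟩ := hy; rw [OmAff.toSpec_D]; exact he b
    | zero => simp
    | add y y' _ _ h h' => simp only [map_add, h, h']
    | smul b y _ h => rw [LinearMap.map_smulₛₗ, Scheme.Modules.Hom.app_smul, h, toTop_smul]
  have hb1 : Function.Bijective (toTop A B) :=
    ConcreteCategory.bijective_of_isIso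
      (tilde.isoTop (R := CommRingCat.of B) (ModuleCat.of B (Ω[B⁄A]))).hom
  have hb2 : Function.Bijective (e.hom.app ⊤) := ConcreteCategory.bijective_of_isIso _
  refine (hb2.of_comp_iff' _).mp ?_
  convert hb1
  exact funext key

end Groth.Agent.OmegaLib
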