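import Mathlib.AlgebraicGeometry.Modules.Tilde
import Mathlib.AlgebraicGeometry.Morphisms.QuasiSeparated
import Groth.Agent.QCoh.Sections

/-! Morphisms out of modules with localizing global sections on affine schemes. -/

set_option autoImplicit false
universe u

namespace Groth.Agent.OmegaLib

open AlgebraicGeometry CategoryTheory TopologicalSpace Opposite

variable {P : Scheme.{u}}

/-- Sections over basic opens are fractions of global sections. -/
def GlobLocalized (M : P.Modules) : Prop :=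
  ∀ r : Γ(P, ⊤),
    (∀ k : Γ(M, P.basicOpen r), ∃ (n : ℕ) (k₀ : Γ(M, ⊤)),
      (P.presheaf.map (homOfLE (le_top : P.basicOpen r ≤ ⊤)).op r) ^ n • k = M.presheaf.map (homOfLE le_top).op k₀) ∧
    ∀ k₀ : Γ(M, ⊤), M.presheaf.map (homOfLE (le_top : P.basicOpen r ≤ ⊤)).op k₀ = 0 →
      ∃ n : ℕ, r ^ n • k₀ = 0

theorem isUnit_res_basicOpen (r : Γ(P, ⊤)) :
    IsUnit (P.presheaf.map (homOfLE (le_top : P.basicOpen r ≤ ⊤)).op r) :=
  RingedSpace.isUnit_res_basicOpen _ r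

variable {M F : P.Modules}

theorem hom_ext_of_affine [IsAffine P] (hM : GlobLocalized M) {φ ψ : M ⟶ F}
    (h : ∀ k, φ.app ⊤ k = ψ.app ⊤ k) : φ = ψ := by
  refine Scheme.Modules.hom_ext _ _ fun U => ?_
  ext k
  rw [← sub_eq_zero]
  refine Groth.Agent.QCoh.eq_zero_of_locally U _ fun p hp => ?_
  obtain ⟨r, hr, hpr⟩ := (isAffineOpen_top P).exists_basicOpen_le (V := U) ⟨p, hp⟩ trivial
  refine ⟨P.basicOpen r, homOfLE hr, hpr, ?_⟩
  rw [map_sub, ← Groth.Agent.QCoh.map_app_comm, ← Groth.Agent.QCoh.map_app_comm, sub_eq_zero]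
  obtain ⟨n, k₀, hk⟩ := (hM r).1 (M.presheaf.map (homOfLE hr).op k)
  refine ((isUnit_res_basicOpen r).pow n).smul_left_cancel.mp ?_
  rw [← Scheme.Modules.Hom.app_smul, ← Scheme.Modules.Hom.app_smul, hk,
    Groth.Agent.QCoh.map_app_comm, Groth.Agent.QCoh.map_app_comm, h]

section Transport

variable [IsAffine P]

/-- Transport to the spectrum of global sections. -/
noncomputable abbrev toSpecMod (M : P.Modules) : (Spec Γ(P, ⊤)).Modules :=
  (Scheme.Modules.pushforward P.isoSpec.hom).obj M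

theorem isoSpec_preimage_basicOpen (r : Γ(P, ⊤)) :
    P.isoSpec.hom ⁻¹ᵁ (PrimeSpectrum.basicOpen r) = P.basicOpen r :=
  Scheme.toSpecΓ_preimage_basicOpen P r

theorem toSpecMod_smul (M : P.Modules) (U : (Spec Γ(P, ⊤)).Opens) (r : Γ(P, ⊤))
    (x : Γ(M, P.isoSpec.hom ⁻¹ᵁ U)) :
    letI y : Γ(toSpecMod M, U) := x
    (r • y : Γ(toSpecMod M, U)) =
      P.presheaf.map (homOfLE (le_top : P.isoSpec.hom ⁻¹ᵁ U ≤ ⊤)).op r • x := by
  change P.isoSpec.hom.app U ((Spec Γ(P, ⊤)).presheaf.map U.leTop.op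
    ((Scheme.ΓSpecIso Γ(P, ⊤)).inv r)) • x = _
  congr 1
  rw [← CommRingCat.comp_apply ((Spec Γ(P, ⊤)).presheaf.map U.leTop.op) (P.isoSpec.hom.app U),
    P.isoSpec.hom.naturality, CommRingCat.comp_apply]
  have h : (P.isoSpec.hom.app ⊤) ((Scheme.ΓSpecIso Γ(P, ⊤)).inv r) = r := by
    change (Scheme.toSpecΓ P).appTop ((Scheme.ΓSpecIso Γ(P, ⊤)).inv r) = r
    rw [Scheme.toSpecΓ_appTop, Iso.inv_hom_id_apply]
  exact congrArg _ h

theorem map_congr_open {U V : P.Opens} (e : U = V) (i : U ⟶ ⊤) (j : V ⟶ ⊤) (x : Γ(M, ⊤)) :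
    M.presheaf.map (eqToHom e.symm).op (M.presheaf.map i.op x) = M.presheaf.map j.op x := by
  subst e
  simp [Subsingleton.elim i j]

theorem toSpecMod_surj (hM : GlobLocalized M) (r : Γ(P, ⊤))
    (x : Γ(toSpecMod M, PrimeSpectrum.basicOpen r)) :
    ∃ (n : ℕ) (k₀ : Γ(toSpecMod M, ⊤)), (r ^ n) • x =
      (toSpecMod M).presheaf.map (homOfLE (le_top : PrimeSpectrum.basicOpen r ≤ ⊤)).op k₀ := by
  have e := isoSpec_preimage_basicOpen r
  let x' : Γ(M, P.isoSpec.hom ⁻¹ᵁ (PrimeSpectrum.basicOpen r)) := x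
  obtain ⟨n, k₀, hk⟩ := (hM r).1 (M.presheaf.map (eqToHom e.symm).op x')
  refine ⟨n, k₀, (toSpecMod_smul M _ (r ^ n) x').trans ?_⟩
  refine (ConcreteCategory.bijective_of_isIso (M.presheaf.map (eqToHom e.symm).op)).1 ?_
  refine Eq.trans ?_ (map_congr_open e _ (homOfLE le_top) k₀).symm
  refine Eq.trans ?_ hk
  rw [Scheme.Modules.map_smul, map_pow, map_pow]
  congr 2
  rw [← CommRingCat.comp_apply, ← Functor.map_comp]
  rfl

theorem toSpecMod_exists_of_eq (hM : GlobLocalized M) (r : Γ(P, ⊤)) (a b : Γ(toSpecMod M, ⊤))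
    (hab : (toSpecMod M).presheaf.map (homOfLE (le_top : PrimeSpectrum.basicOpen r ≤ ⊤)).op a =
      (toSpecMod M).presheaf.map (homOfLE (le_top : PrimeSpectrum.basicOpen r ≤ ⊤)).op b) :
    ∃ n : ℕ, (r ^ n) • a = (r ^ n) • b := by
  have e := isoSpec_preimage_basicOpen r
  let a' : Γ(M, ⊤) := a
  let b' : Γ(M, ⊤) := b
  have hz : M.presheaf.map (homOfLE (le_top : P.basicOpen r ≤ ⊤)).op (a' - b') = 0 := by
    rw [map_sub, sub_eq_zero]
    exact (map_congr_open e _ _ a').symm.trans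
      ((congrArg (M.presheaf.map (eqToHom e.symm).op) hab).trans (map_congr_open e _ _ b'))
  obtain ⟨n, hn⟩ := (hM r).2 _ hz
  rw [smul_sub, sub_eq_zero] at hn
  refine ⟨n, (toSpecMod_smul M ⊤ (r ^ n) a').trans (Eq.trans ?_ (toSpecMod_smul M ⊤ (r ^ n) b').symm)⟩
  have h1 : P.presheaf.map (homOfLE (le_top : P.isoSpec.hom ⁻¹ᵁ ⊤ ≤ ⊤)).op (r ^ n) = r ^ n := by
    simp
    rfl
  rw [h1]
  exact hn

theorem isIso_fromTildeΓ_toSpecMod (hM : GlobLocalized M) :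
    IsIso (toSpecMod M).fromTildeΓ := by
  rw [isIso_fromTildeΓ_iff_isLocalizing]
  intro r
  constructor
  · rintro ⟨_, n, rfl⟩
    rw [map_pow]
    exact ((toSpecMod M).isUnit_algebraMap_end_of_le_basicOpen r le_rfl).pow n
  · intro x
    obtain ⟨n, k₀, h⟩ := toSpecMod_surj hM r x
    exact ⟨⟨k₀, ⟨r ^ n, n, rfl⟩⟩, h⟩
  · intro a b hab
    obtain ⟨n, h⟩ := toSpecMod_exists_of_eq hM r a b hab
    exact ⟨⟨r ^ n, n, rfl⟩, h⟩

/-- A linear map on global sections, read on the spectrum. -/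
noncomputable def toSpecLin (ψ : Γ(M, ⊤) →+ Γ(F, ⊤))
    (hψ : ∀ (r : Γ(P, ⊤)) k, ψ (r • k) = r • ψ k) :
    Γ(toSpecMod M, ⊤) →ₗ[Γ(P, ⊤)] Γ(toSpecMod F, ⊤) where
  toFun k := ψ k
  map_add' := map_add ψ
  map_smul' r k := by
    rw [RingHom.id_apply]
    exact (congrArg ψ (toSpecMod_smul M ⊤ r k)).trans
      ((hψ _ _).trans (toSpecMod_smul F ⊤ r (ψ k)).symm)

/-- Any linear map on global sections extends to a morphism of modules. -/
theorem exists_hom_of_affine (hM : GlobLocalized M) (ψ : Γ(M, ⊤) →+ Γ(F, ⊤))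
    (hψ : ∀ (r : Γ(P, ⊤)) k, ψ (r • k) = r • ψ k) : ∃ φ : M ⟶ F, ∀ k, φ.app ⊤ k = ψ k := by
  have : IsIso ((tilde.adjunction (R := Γ(P, ⊤))).counit.app (toSpecMod M)) :=
    isIso_fromTildeΓ_toSpecMod hM
  let g : (moduleSpecΓFunctor).obj (toSpecMod M) ⟶ (moduleSpecΓFunctor).obj (toSpecMod F) :=
    (ModuleCat.ofHom (toSpecLin ψ hψ) :
      ModuleCat.of Γ(P, ⊤) Γ(toSpecMod M, ⊤) ⟶ ModuleCat.of Γ(P, ⊤) Γ(toSpecMod F, ⊤))
  let φ' : toSpecMod M ⟶ toSpecMod F := inv (tilde.adjunction.counit.app (toSpecMod M)) ≫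
    (tilde.adjunction.homEquiv _ _).symm g
  have h : (tilde.adjunction.homEquiv _ _).symm g =
      tilde.adjunction.counit.app (toSpecMod M) ≫ φ' := by simp [φ']
  have hφ' : (moduleSpecΓFunctor).map φ' = g := by
    have h2 := (tilde.adjunction.homEquiv _ (toSpecMod F)).apply_symm_apply g
    rw [h, Adjunction.homEquiv_unit, Functor.map_comp,
      Adjunction.right_triangle_components_assoc] at h2
    exact h2
  let η : Scheme.Modules.pushforward P.isoSpec.hom ⋙ Scheme.Modules.pushforward P.isoSpec.inv ≅ 𝟭 _ :=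
    Scheme.Modules.pushforwardComp _ _ ≪≫ Scheme.Modules.pushforwardCongr P.isoSpec.hom_inv_id ≪≫
      Scheme.Modules.pushforwardId P
  refine ⟨η.inv.app M ≫ (Scheme.Modules.pushforward P.isoSpec.inv).map φ' ≫ η.hom.app F,
    fun k => ?_⟩
  have h2 : φ'.app ⊤ k = ψ k := congr($hφ' k)
  simp [η]
  exact h2

end Transport

end Groth.Agent.OmegaLib
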